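import Cfsg.Agent.Lib.Comp.BalanceTwo
import Cfsg.Agent.S0205

/-!
A perfect group centralising a Sylow `2`-subgroup of a quasisimple group that it normalises centralises it.
-/

set_option autoImplicit false
set_option linter.unusedSectionVars false
set_option linter.style.haveILetI false

namespace CfsgLib.Flavell1933

open Cfsg CfsgLib CfsgLib.Comp
open scoped commutatorElement

universe u

variable {X : Type u} [Group X] [Finite X]

theorem isSolvable_of_not_even {Y : Type u} [Group Y] [Finite Y] (h : ¬ 2 ∣ Nat.card Y) : Group.IsSolvable Y :=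
  Cfsg.Agent.S0205.result (Nat.odd_iff.mpr (Nat.two_dvd_ne_zero.mp h))

/-- A perfect group is generated by its `2`-elements. -/
theorem pEl_two_of_perfect {L : Subgroup X} (hperf : ⁅L, L⁆ = L) : pEl 2 L = L := by
  haveI : Fact (Nat.Prime 2) := ⟨Nat.prime_two⟩
  haveI : Group.IsPerfect ↥L := Subgroup.isPerfect_iff.mpr hperf
  refine le_antisymm (pEl_le L) ?_
  haveI hn : ((pEl 2 L).subgroupOf L).Normal := (Subgroup.normal_subgroupOf_iff_le_normalizer (pEl_le L)).mpr
    (Subgroup.le_normalizer.trans (normalizer_le_normalizer_pEl L))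
  rw [← Subgroup.subgroupOf_eq_top]
  by_contra hne
  haveI : Nontrivial (↥L ⧸ (pEl 2 L).subgroupOf L) := QuotientGroup.nontrivial_iff.mpr hne
  haveI : Group.IsPerfect (↥L ⧸ (pEl 2 L).subgroupOf L) :=
    Group.IsPerfect.ofSurjective (f := QuotientGroup.mk' _) (QuotientGroup.mk'_surjective _)
  refine Group.IsPerfect.not_isSolvable (↥L ⧸ (pEl 2 L).subgroupOf L) (isSolvable_of_not_even ?_)
  rw [← Subgroup.index]
  exact (Nat.Prime.coprime_iff_not_dvd Nat.prime_two).mp (pEl_index_coprime L).symm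

theorem center_le_of_quasisimple_odd {J : Subgroup X} (hJ : IsQuasisimple ↥J) (T : Sylow 2 ↥J) :
    ¬ (T : Subgroup ↥J) ≤ Subgroup.center ↥J := by
  haveI : Fact (Nat.Prime 2) := ⟨Nat.prime_two⟩
  haveI : Group.IsPerfect ↥J := hJ.1
  intro h
  have hodd := CfsgLib.CentSylow.odd_of_perfect_of_central T fun g _ x hx =>
    (Subgroup.mem_center_iff.mp (h hx) g).symm
  exact isQuasisimple_not_isSolvable hJ (isSolvable_of_not_even
    (Nat.two_dvd_ne_zero.mpr (Nat.odd_iff.mp hodd)))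

/-- A perfect group normalising a quasisimple group and centralising a Sylow `2`-subgroup of it centralises it. -/
theorem centralizes_quasisimple {J L : Subgroup X} (hJ : IsQuasisimple ↥J)
    (hLN : L ≤ Subgroup.normalizer (J : Set X)) (hperf : ⁅L, L⁆ = L) (T : Sylow 2 ↥J)
    (hcent : ∀ l ∈ L, ∀ x ∈ (T : Subgroup ↥J), l * (x : X) = x * l) :
    L ≤ Subgroup.centralizer (J : Set X) := by
  haveI : Fact (Nat.Prime 2) := ⟨Nat.prime_two⟩
  set π := QuotientGroup.mk' (Subgroup.center ↥J) with hπ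
  set S := T.mapSurjective (QuotientGroup.mk'_surjective (Subgroup.center ↥J)) with hS
  haveI hsimple := hJ.2
  have hOb : pPrimeCore 2 (↥J ⧸ Subgroup.center ↥J) = ⊥ := by
    refine (Subgroup.Normal.eq_bot_or_eq_top inferInstance).resolve_right fun htop => ?_
    refine center_le_of_quasisimple_odd hJ T fun x hx => ?_
    have hmem : π x ∈ (S : Subgroup (↥J ⧸ Subgroup.center ↥J)) := ⟨x, hx, rfl⟩
    obtain ⟨n, hn⟩ := S.2 ⟨_, hmem⟩
    have h1 : π x = 1 := pElement_eq_one_of_coprime (card_pPrimeCore_coprime 2)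
      (htop ▸ Subgroup.mem_top _) (n := n) (congrArg Subtype.val hn)
    exact (QuotientGroup.eq_one_iff _).mp h1
  let ρ : ↥L →* MulAut (↥J ⧸ Subgroup.center ↥J) := (quotAut J).comp (Subgroup.inclusion hLN)
  have hρ : ρ.range = ⊥ := by
    refine CfsgLib.CentSylow.eq_bot_of_perfect hOb S ρ.range ?_ ?_ ?_
    · rintro _ ⟨l, rfl⟩ s hs
      obtain ⟨x, hx, rfl⟩ := hs
      show QuotientGroup.mk (J.normalizerMonoidHom ⟨l, hLN l.2⟩ x) = QuotientGroup.mk x
      refine congrArg QuotientGroup.mk (Subtype.ext ?_)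
      show (l : X) * x * (l : X)⁻¹ = x
      rw [hcent l l.2 x hx, mul_inv_cancel_right]
    · haveI : Group.IsPerfect ↥L := Subgroup.isPerfect_iff.mpr hperf
      rw [MonoidHom.range_eq_map, ← Subgroup.map_commutator, ← _root_.commutator_def,
        Group.isPerfect_def.mp ‹Group.IsPerfect ↥L›]
    · have h1 : pEl 2 (⊤ : Subgroup ↥L) = ⊤ := Subgroup.map_injective L.subtype_injective (by
        rw [← pEl_map_subtype, ← MonoidHom.range_eq_map, Subgroup.range_subtype, pEl_two_of_perfect hperf])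
      calc ρ.range = (pEl 2 (⊤ : Subgroup ↥L)).map ρ := by rw [h1, ← MonoidHom.range_eq_map]
        _ ≤ pEl 2 ((⊤ : Subgroup ↥L).map ρ) := pEl_map_le ρ ⊤
        _ = pEl 2 ρ.range := by rw [← MonoidHom.range_eq_map]
        _ ≤ _ := le_rfl
  set Z := (Subgroup.center ↥J).map J.subtype with hZ
  have hLJ : ⁅L, J⁆ ≤ Z := by
    rw [Subgroup.commutator_le]
    intro l hl a ha
    have h1 : QuotientGroup.mk (J.normalizerMonoidHom ⟨l, hLN hl⟩ ⟨a, ha⟩) =
        (QuotientGroup.mk (⟨a, ha⟩ : ↥J) : ↥J ⧸ Subgroup.center ↥J) := by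
      have h2 : ρ ⟨l, hl⟩ = 1 := Subgroup.mem_bot.mp (hρ ▸ ⟨_, rfl⟩)
      exact congrArg (fun e : MulAut (↥J ⧸ Subgroup.center ↥J) => e (QuotientGroup.mk' _ ⟨a, ha⟩)) h2
    have h3 := QuotientGroup.eq_iff_div_mem.mp h1
    refine ⟨_, h3, ?_⟩
    rw [div_eq_mul_inv, commutatorElement_def]
    rfl
  have hZJ : ⁅Z, J⁆ = ⊥ := by
    rw [Subgroup.commutator_eq_bot_iff_le_centralizer]
    rintro _ ⟨z, hz, rfl⟩ y hy
    exact congrArg Subtype.val (Subgroup.mem_center_iff.mp hz ⟨y, hy⟩)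
  have h2 : ⁅⁅L, J⁆, J⁆ = ⊥ := le_bot_iff.mp (hZJ ▸ Subgroup.commutator_mono hLJ le_rfl)
  have h1 : ⁅⁅J, L⁆, J⁆ = ⊥ := by rwa [Subgroup.commutator_comm J L]
  have h3 := Subgroup.commutator_commutator_eq_bot_of_rotate h1 h2
  rw [show ⁅J, J⁆ = J from Subgroup.isPerfect_iff.mp hJ.1, Subgroup.commutator_comm,
    Subgroup.commutator_eq_bot_iff_le_centralizer] at h3
  exact h3

end CfsgLib.Flavell1933
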