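import Cfsg.Agent.Lib.Flavell1933.Supplement
import Cfsg.Agent.Lib.Flavell1933.Component
import Cfsg.Agent.Lib.Comp.LayerMore
import Cfsg.Agent.Lib.Comp.LayerNormalizes

/-!
`E(H) ≤ E(G)` for a subgroup `H = [H, R]` of an `r'`-group `G` normalised by `R` and by `C_G(R)`.

Blueprint: `blueprint/Flavell.md`, section S1933.
-/

set_option autoImplicit false
set_option linter.unusedSectionVars false
set_option linter.style.haveILetI false

namespace CfsgLib.Flavell1933

open Cfsg
open scoped commutatorElement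

universe u

variable {X : Type u} [Group X] [Finite X]

/-- The layer of a subgroup, inside the ambient group. -/
def layerIn (G : Subgroup X) : Subgroup X := (layer ↥G).map G.subtype

/-- A component of a subgroup, inside the ambient group. -/
def IsCompIn (H K : Subgroup X) : Prop := ∃ K' : Subgroup ↥H, IsComponent K' ∧ K'.map H.subtype = K

theorem IsCompIn.quasisimple {H K : Subgroup X} (h : IsCompIn H K) : IsQuasisimple ↥K := by
  obtain ⟨K', hK, rfl⟩ := h
  exact CfsgLib.isQuasisimple_of_equiv (K'.equivMapOfInjective _ H.subtype_injective) hK.2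

theorem IsCompIn.le {H K : Subgroup X} (h : IsCompIn H K) : K ≤ H := by
  obtain ⟨K', -, rfl⟩ := h
  exact Subgroup.map_subtype_le _

theorem IsCompIn.perfect {H K : Subgroup X} (h : IsCompIn H K) : ⁅K, K⁆ = K :=
  Subgroup.isPerfect_iff.mp h.quasisimple.1

theorem IsCompIn.ne_bot {H K : Subgroup X} (h : IsCompIn H K) : K ≠ ⊥ := by
  rintro rfl
  exact not_nontrivial (⊥ : Subgroup X) (CfsgLib.isQuasisimple_nontrivial h.quasisimple)

theorem le_layerIn {H K : Subgroup X} (h : IsCompIn H K) : K ≤ layerIn H := by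
  obtain ⟨K', hK, rfl⟩ := h
  exact Subgroup.map_mono (CfsgLib.le_layer hK)

theorem layerIn_le_of_forall {H A : Subgroup X} (h : ∀ K, IsCompIn H K → K ≤ A) : layerIn H ≤ A := by
  rw [layerIn, Subgroup.map_le_iff_le_comap]
  refine sSup_le fun K hK => ?_
  rw [← Subgroup.map_le_iff_le_comap]
  exact h _ ⟨K, hK, rfl⟩

/-- Conjugates of components. -/
theorem IsCompIn.conj {H K : Subgroup X} (h : IsCompIn H K) {g : X} (hg : g ∈ Subgroup.normalizer (H : Set X)) :
    IsCompIn H (K.map (MulAut.conj g).toMonoidHom) := by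
  obtain ⟨K', hK, rfl⟩ := h
  refine ⟨K'.map (H.normalizerMonoidHom ⟨g, hg⟩).toMonoidHom, CfsgLib.isComponent_map_equiv _ hK, ?_⟩
  ext x
  constructor
  · rintro ⟨_, ⟨k, hk, rfl⟩, rfl⟩
    exact ⟨_, ⟨k, hk, rfl⟩, rfl⟩
  · rintro ⟨_, ⟨k, hk, rfl⟩, rfl⟩
    exact ⟨_, ⟨k, hk, rfl⟩, rfl⟩

theorem normalizer_le_layerIn (G : Subgroup X) :
    Subgroup.normalizer (G : Set X) ≤ Subgroup.normalizer (layerIn G : Set X) := by
  refine normalizer_of_maps fun g hg x hx => ?_
  obtain ⟨y, hy, rfl⟩ := hx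
  refine ⟨G.normalizerMonoidHom ⟨g, hg⟩ y, ?_, rfl⟩
  rw [← CfsgLib.map_layer_equiv (G.normalizerMonoidHom ⟨g, hg⟩)]
  exact ⟨y, hy, rfl⟩

theorem layerIn_le (G : Subgroup X) : layerIn G ≤ G := Subgroup.map_subtype_le _

theorem layerIn_normalizes_comp {H K : Subgroup X} (h : IsCompIn H K) :
    layerIn H ≤ Subgroup.normalizer (K : Set X) := by
  obtain ⟨K', hK, rfl⟩ := h
  refine normalizer_of_maps ?_
  rintro _ ⟨g, hg, rfl⟩ _ ⟨k, hk, rfl⟩
  exact ⟨g * k * g⁻¹, (Subgroup.mem_normalizer_iff.mp (CfsgLib.Comp.layer_le_normalizer_component hK hg) k).mp hk,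
    by simp⟩

/-- A component of `H` outside a normal subgroup `A` of `G` centralises the fixed points of `R` in `A`. -/
theorem comp_centralizes_fixed {G R H A K : Subgroup X} (hHG : H ≤ G)
    (hHinv : R ⊔ (G ⊓ Subgroup.centralizer (R : Set X)) ≤ Subgroup.normalizer (H : Set X))
    (hK : IsCompIn H K) (hAG : A ≤ G) (hGA : G ≤ Subgroup.normalizer (A : Set X)) (hKA : ¬ K ≤ A) :
    ⁅A ⊓ Subgroup.centralizer (R : Set X), K⁆ = ⊥ := by
  have hKH := hK.le
  have hperf := hK.perfect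
  obtain ⟨K', hK', rfl⟩ := hK
  haveI : (A.subgroupOf H).Normal :=
    ⟨fun a ha g => (Subgroup.mem_normalizer_iff.mp (hGA (hHG g.2)) (a : X)).mp ha⟩
  have hc : ⁅K', A.subgroupOf H⁆ = ⊥ :=
    (CfsgLib.component_le_or_commutator_eq_bot hK' _).resolve_left fun h => hKA
      ((Subgroup.map_mono h).trans (by rw [Subgroup.subgroupOf_map_subtype]; exact inf_le_left))
  have hc' : ⁅A ⊓ H, K'.map H.subtype⁆ = ⊥ := by
    rw [Subgroup.commutator_comm, ← Subgroup.subgroupOf_map_subtype, ← Subgroup.map_commutator, hc, Subgroup.map_bot]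
  refine perfect_centralizes hperf (le_bot_iff.mp (hc' ▸ Subgroup.commutator_mono ?_ le_rfl))
  rw [Subgroup.commutator_le]
  intro c hc k hk
  obtain ⟨hcA, hcR⟩ := Subgroup.mem_inf.mp hc
  have hkG := hGA (hHG (hKH hk))
  have hcH := hHinv (Subgroup.mem_sup_right (Subgroup.mem_inf.mpr ⟨hAG hcA, hcR⟩))
  refine Subgroup.mem_inf.mpr ⟨?_, ?_⟩
  · rw [commutatorElement_def, mul_assoc, mul_assoc, ← mul_assoc k]
    exact A.mul_mem hcA ((Subgroup.mem_normalizer_iff.mp hkG _).mp (A.inv_mem hcA))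
  · rw [commutatorElement_def]
    exact H.mul_mem ((Subgroup.mem_normalizer_iff.mp hcH k).mp (hKH hk)) (H.inv_mem (hKH hk))

theorem map_sSup_le {S : Set (Subgroup X)} {g : X} (h : ∀ K ∈ S, K.map (MulAut.conj g).toMonoidHom ∈ S)
    {x : X} (hx : x ∈ sSup S) : g * x * g⁻¹ ∈ sSup S := by
  have hle : sSup S ≤ (sSup S).comap (MulAut.conj g).toMonoidHom := sSup_le fun K hK k hk =>
    le_sSup (h K hK) ⟨k, hk, rfl⟩
  exact hle hx

theorem sSup_perfect {S : Set (Subgroup X)} (h : ∀ K ∈ S, ⁅K, K⁆ = K) : ⁅sSup S, sSup S⁆ = sSup S := by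
  refine le_antisymm (CfsgLib.commutator_le_of_le_normalizer Subgroup.le_normalizer) (sSup_le fun K hK => ?_)
  conv_lhs => rw [← h K hK]
  exact Subgroup.commutator_mono (le_sSup hK) (le_sSup hK)

/-- A perfect group covered by `W = E(G)` and centralisers of `W`, centralising every `O_q(G)`, lies in `W`. -/
theorem le_layerIn_of_covered {G Y B : Subgroup X} (hYG : Y ≤ G) (hperf : ⁅Y, Y⁆ = Y) (hBG : B ≤ G)
    (hB : B ≤ Subgroup.centralizer (layerIn G : Set X)) (hYB : Y ≤ layerIn G ⊔ B)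
    (hF : ∀ q : Nat.Primes, ⁅(pCore (q : ℕ) ↥G).map G.subtype, Y⁆ = ⊥) : Y ≤ layerIn G := by
  set Y' := Y.subgroupOf G with hY'
  have hY'F : Y' ≤ Subgroup.centralizer (fittingSubgroup ↥G : Set ↥G) := by
    rw [Subgroup.le_centralizer_iff, CfsgLib.fittingSubgroup_eq_iSup_pCore]
    refine iSup_le fun q f hf => Subgroup.mem_centralizer_iff.mpr fun y hy => Subtype.ext ?_
    exact (comm_of_bot (hF q) ⟨f, hf, rfl⟩ hy).symm
  have hY'le : Y' ≤ generalizedFittingSubgroup ↥G := by
    intro y hy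
    have hBn : B ≤ Subgroup.normalizer (layerIn G : Set X) :=
      hBG.trans (Subgroup.le_normalizer.trans (normalizer_le_layerIn G))
    obtain ⟨e, he, b, hb, heb⟩ := CfsgLib.mem_sup_of_le_normalizer hBn (hYB hy)
    set e' : G := ⟨e, layerIn_le G he⟩ with he'
    set b' : G := ⟨b, hBG hb⟩ with hb'
    have hy' : y = e' * b' := Subtype.ext heb.symm
    have he'L : e' ∈ layer ↥G := by
      obtain ⟨z, hz, hze⟩ := he
      exact (Subtype.ext hze : z = e') ▸ hz
    have hb'F : b' ∈ Subgroup.centralizer (fittingSubgroup ↥G : Set ↥G) := by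
      rw [show b' = e'⁻¹ * y by rw [hy', inv_mul_cancel_left]]
      exact Subgroup.mul_mem _ (Subgroup.inv_mem _ (CfsgLib.layer_le_centralizer_fitting he'L)) (hY'F hy)
    have hb'L : b' ∈ Subgroup.centralizer (layer ↥G : Set ↥G) :=
      Subgroup.mem_centralizer_iff.mpr fun l hl => Subtype.ext
        (Subgroup.mem_centralizer_iff.mp (hB hb) (l : X) ⟨l, hl, rfl⟩)
    have hb'C : b' ∈ Subgroup.centralizer (generalizedFittingSubgroup ↥G : Set ↥G) := by
      have hle : generalizedFittingSubgroup ↥G ≤ Subgroup.centralizer ({b'} : Set ↥G) := sup_le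
        (fun l hl => Subgroup.mem_centralizer_singleton_iff.mpr (Subgroup.mem_centralizer_iff.mp hb'L l hl))
        (fun l hl => Subgroup.mem_centralizer_singleton_iff.mpr (Subgroup.mem_centralizer_iff.mp hb'F l hl))
      exact Subgroup.mem_centralizer_iff.mpr fun l hl => Subgroup.mem_centralizer_singleton_iff.mp (hle hl)
    rw [hy']
    exact Subgroup.mul_mem _ (CfsgLib.layer_le_generalized he'L) (CfsgLib.centralizer_generalizedFitting_le hb'C)
  have hperf' : ⁅Y', Y'⁆ = Y' := Subgroup.map_injective G.subtype_injective (by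
    rw [Subgroup.map_commutator, hY', Subgroup.map_subgroupOf_eq_of_le hYG, hperf])
  have hlay : Y' ≤ layer ↥G := by
    rw [← CfsgLib.Comp.derived_gfit]
    refine le_iInf fun n => ?_
    induction n with
    | zero =>
      rw [derivedSeries_zero, ← MonoidHom.range_eq_map, Subgroup.range_subtype]
      exact hY'le
    | succ n ihn =>
      rw [derivedSeries_succ, Subgroup.map_commutator, ← hperf']
      exact Subgroup.commutator_mono ihn ihn
  calc Y = Y'.map G.subtype := (Subgroup.map_subgroupOf_eq_of_le hYG).symm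
    _ ≤ layerIn G := Subgroup.map_mono hlay

/-- A group centralising a Sylow `2`-subgroup of `E(G)` centralises `E(G)`. -/
theorem centralizes_layerIn {G B : Subgroup X} (hBG : B ≤ G) (hperf : ⁅B, B⁆ = B) (T : Sylow 2 ↥(layerIn G))
    (hT : B ≤ Subgroup.centralizer ((T : Subgroup ↥(layerIn G)).map (layerIn G).subtype : Set X)) :
    B ≤ Subgroup.centralizer (layerIn G : Set X) := by
  haveI : Fact (Nat.Prime 2) := ⟨Nat.prime_two⟩
  rw [Subgroup.le_centralizer_iff]
  refine layerIn_le_of_forall fun J hJ => ?_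
  rw [Subgroup.le_centralizer_iff]
  have hJW : J ≤ (layerIn G) := le_layerIn hJ
  haveI hn : (J.subgroupOf (layerIn G)).Normal :=
    (Subgroup.normal_subgroupOf_iff_le_normalizer hJW).mpr (layerIn_normalizes_comp hJ)
  obtain ⟨-, hp, hidx⟩ := CfsgLib.Comp.isSylowIn_inf_of_subnormal T (Subgroup.Normal.isSubnormal hn)
  set TI := ((T : Subgroup ↥(layerIn G)) ⊓ J.subgroupOf (layerIn G)).map (layerIn G).subtype with hTI
  have hTIJ : TI ≤ J := (Subgroup.map_mono inf_le_right).trans (by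
    rw [Subgroup.subgroupOf_map_subtype]; exact inf_le_left)
  have hidx' : ¬ 2 ∣ (TI.subgroupOf J).index := by
    have h : TI.relIndex ((J.subgroupOf (layerIn G)).map (layerIn G).subtype) =
        ((T : Subgroup ↥(layerIn G)) ⊓ J.subgroupOf (layerIn G)).relIndex (J.subgroupOf (layerIn G)) :=
      Subgroup.relIndex_map_map_of_injective _ _ (layerIn G).subtype_injective
    rw [Subgroup.map_subgroupOf_eq_of_le hJW] at h
    rw [← Subgroup.relIndex, h]
    exact hidx
  let TJ : Sylow 2 ↥J := ((hp.map (layerIn G).subtype).of_equiv (Subgroup.subgroupOfEquivOfLe hTIJ).symm).toSylow hidx'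
  have hcent : ∀ b ∈ B, ∀ x ∈ (TJ : Subgroup ↥J), b * (x : X) = x * b := by
    intro b hb x hx
    have h1 : (x : X) ∈ TI := hx
    obtain ⟨w, hw, e⟩ := h1
    exact (Subgroup.mem_centralizer_iff.mp (hT hb) _ ⟨w, hw.1, e⟩).symm
  have hBJ : B ≤ Subgroup.normalizer (J : Set X) := by
    intro b hb
    refine CfsgLib.Comp.mem_normalizer_of_cj ?_
    by_contra hne
    obtain ⟨J', hJ', rfl⟩ := hJ
    obtain ⟨J2, hJ2, hJ2e⟩ := IsCompIn.conj ⟨J', hJ', rfl⟩ (Subgroup.le_normalizer (hBG hb))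
    have hc : ⁅J2, J'⁆ = ⊥ := (CfsgLib.components_eq_or_commute hJ2 hJ').resolve_left fun e => hne (by
      rw [e] at hJ2e; exact hJ2e.symm)
    have hc' : ⁅J2.map G.subtype, J'.map G.subtype⁆ = ⊥ := by
      rw [← Subgroup.map_commutator, hc, Subgroup.map_bot]
    refine center_le_of_quasisimple_odd (IsCompIn.quasisimple ⟨J', hJ', rfl⟩) TJ fun x hx =>
      Subgroup.mem_center_iff.mpr fun y => Subtype.ext ?_
    have hxm : (x : X) ∈ J2.map G.subtype := by
      rw [hJ2e]
      refine ⟨x, x.2, ?_⟩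
      show b * (x : X) * b⁻¹ = x
      rw [hcent b hb x hx, mul_inv_cancel_right]
    exact (comm_of_bot hc' hxm y.2).symm
  exact centralizes_quasisimple hJ.quasisimple hBJ hperf TJ hcent

/-- `E(H) ≤ E(G)`. -/
theorem layer_le {r : ℕ} [Fact r.Prime] {G R H : Subgroup X} (hR : Nat.card R = r) (hcop : (Nat.card G).Coprime r)
    (hnorm : R ≤ Subgroup.normalizer (G : Set X)) (hHG : H ≤ G)
    (hHinv : R ⊔ (G ⊓ Subgroup.centralizer (R : Set X)) ≤ Subgroup.normalizer (H : Set X))
    (hHR : ⁅H, R⁆ = H) : layerIn H ≤ layerIn G := by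
  classical
  by_cases hr2 : r = 2
  · refine layerIn_le_of_forall fun K hK => absurd (isSolvable_of_not_even (Y := ↥K) fun h => ?_)
      (CfsgLib.isQuasisimple_not_isSolvable hK.quasisimple)
    have h1 := Nat.eq_one_of_dvd_coprimes hcop (h.trans (Subgroup.card_dvd_of_le (hK.le.trans hHG))) (hr2 ▸ dvd_rfl)
    omega
  set W := layerIn G with hW
  set S : Set (Subgroup X) := {K | IsCompIn H K ∧ ¬ K ≤ W} with hS
  set S1 : Set (Subgroup X) := {K | K ∈ S ∧ ⁅K, R⁆ ≠ ⊥} with hS1
  set Y := sSup S1 with hYdef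
  have hRH : R ≤ Subgroup.normalizer (H : Set X) := le_sup_left.trans hHinv
  have hRW : R ≤ Subgroup.normalizer (W : Set X) := hnorm.trans (normalizer_le_layerIn G)
  have hGW : G ≤ Subgroup.normalizer (W : Set X) := Subgroup.le_normalizer.trans (normalizer_le_layerIn G)
  have hSconj : ∀ g, g ∈ Subgroup.normalizer (H : Set X) → g ∈ Subgroup.normalizer (W : Set X) → ∀ K ∈ S,
      K.map (MulAut.conj g).toMonoidHom ∈ S := fun g hgH hgW K hK => ⟨hK.1.conj hgH, fun h => hK.2 fun k hk =>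
    (Subgroup.mem_normalizer_iff.mp hgW k).mpr (h ⟨k, hk, rfl⟩)⟩
  have hYH : Y ≤ H := sSup_le fun K hK => hK.1.1.le
  have hYperf : ⁅Y, Y⁆ = Y := sSup_perfect fun K hK => hK.1.1.perfect
  have hRY : R ≤ Subgroup.normalizer (Y : Set X) := by
    refine normalizer_of_maps fun g hg x hx => map_sSup_le (S := S1) (g := g) (fun K hK => ⟨hSconj g (hRH hg) (hRW hg) K hK.1, fun h => hK.2 ?_⟩) hx
    have hRg : R.map (MulAut.conj g).toMonoidHom = R := by
      refine Subgroup.eq_of_le_of_card_ge ?_ (Subgroup.card_map_of_injective (MulAut.conj g).injective).ge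
      rintro _ ⟨s, hs, rfl⟩
      exact R.mul_mem (R.mul_mem hg hs) (R.inv_mem hg)
    have h1 : (⁅K, R⁆).map (MulAut.conj g).toMonoidHom = ⊥ := by rw [Subgroup.map_commutator, hRg, h]
    exact (Subgroup.map_eq_bot_iff_of_injective _ (MulAut.conj g).injective).mp h1
  have hYgen : ⁅Y, R⁆ = Y := by
    refine le_antisymm (CfsgLib.commutator_le_of_le_normalizer hRY) (sSup_le fun K hK => ?_)
    by_contra hKA
    set A := ⁅Y, R⁆ with hA
    have hAY : A ≤ Y := CfsgLib.commutator_le_of_le_normalizer hRY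
    have hKY : K ≤ Y := le_sSup hK
    have hKA' : K ≤ Subgroup.normalizer (A : Set X) := hKY.trans (CfsgLib.left_le_normalizer_commutator R Y)
    have hAK : A ≤ Subgroup.normalizer (K : Set X) :=
      (hAY.trans (sSup_le fun L hL => le_layerIn hL.1.1)).trans (layerIn_normalizes_comp hK.1.1)
    haveI : (A.subgroupOf K).Normal :=
      ⟨fun a ha g => (Subgroup.mem_normalizer_iff.mp (hKA' g.2) (a : X)).mp ha⟩
    rcases CfsgLib.quasisimple_normal_le_center_or_eq_top hK.1.1.quasisimple (A.subgroupOf K) with h | h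
    swap
    · exact hKA (Subgroup.subgroupOf_eq_top.mp h)
    have hAKc : ⁅A, K⁆ = ⊥ := by
      refine perfect_centralizes hK.1.1.perfect (bot_of_comm fun x hx k hk => ?_)
      have hxA : x ∈ A := (Subgroup.commutator_comm A K ▸ CfsgLib.commutator_le_of_le_normalizer (K := A) hKA' :
        ⁅K, A⁆ ≤ A) (Subgroup.commutator_comm A K ▸ hx)
      have hxK : x ∈ K := (CfsgLib.commutator_le_of_le_normalizer (K := K) hAK) (Subgroup.commutator_comm A K ▸ hx)
      exact (congrArg Subtype.val (Subgroup.mem_center_iff.mp (h (show (⟨x, hxK⟩ : K) ∈ A.subgroupOf K from hxA))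
        ⟨k, hk⟩)).symm
    refine hK.2 ?_
    have h1 : ⁅⁅K, R⁆, K⁆ = ⊥ := le_bot_iff.mp (hAKc ▸ Subgroup.commutator_mono
      (Subgroup.commutator_mono hKY le_rfl) le_rfl)
    have h2 : ⁅⁅R, K⁆, K⁆ = ⊥ := by rwa [Subgroup.commutator_comm R K]
    have h3 := Subgroup.commutator_commutator_eq_bot_of_rotate (H₁ := K) (H₂ := K) (H₃ := R) h1 h2
    rwa [hK.1.1.perfect] at h3
  have hYG := hYH.trans hHG
  have hfix : ∀ A : Subgroup X, A ≤ G → G ≤ Subgroup.normalizer (A : Set X) → (∀ K ∈ S, ¬ K ≤ A) →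
      ⁅A ⊓ Subgroup.centralizer (R : Set X), Y⁆ = ⊥ := by
    intro A hAG hGA hKA
    rw [Subgroup.commutator_eq_bot_iff_le_centralizer, Subgroup.le_centralizer_iff]
    refine sSup_le fun K hK => ?_
    rw [← Subgroup.le_centralizer_iff, ← Subgroup.commutator_eq_bot_iff_le_centralizer]
    exact comp_centralizes_fixed hHG hHinv hK.1.1 hAG hGA (hKA K hK.1)
  -- the Fitting subgroup
  have hF : ∀ q : Nat.Primes, ⁅(pCore (q : ℕ) ↥G).map G.subtype, Y⁆ = ⊥ := by
    intro q
    set A := (pCore (q : ℕ) ↥G).map G.subtype with hAdef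
    haveI := Fact.mk q.2
    haveI hnA : (pCore (q : ℕ) ↥G).Normal := Subgroup.sSup_normal _ (fun _ h => h.1)
    have hAp : IsPGroup (q : ℕ) A := (CfsgLib.isPGroup_pCore (q : ℕ)).map _
    have hAG : A ≤ G := Subgroup.map_subtype_le _
    by_cases hqr : (q : ℕ) = r
    · have hA1 : A = ⊥ := by
        obtain ⟨k, hk⟩ := hAp.exists_card_eq
        refine Subgroup.card_eq_one.mp (Nat.eq_one_of_dvd_coprimes hcop (Subgroup.card_dvd_of_le hAG) ?_)
        rw [hqr] at hk
        rw [hk]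
        rcases Nat.eq_zero_or_pos k with rfl | hk0
        · rw [pow_zero]; exact one_dvd r
        · have h1 : r ∣ Nat.card G :=
            (dvd_pow_self r hk0.ne').trans (hk ▸ Subgroup.card_dvd_of_le hAG)
          exact absurd (Nat.eq_one_of_dvd_coprimes hcop h1 dvd_rfl) (Fact.out : r.Prime).one_lt.ne'
      rw [hA1]; exact Subgroup.commutator_bot_left _
    have hGA : G ≤ Subgroup.normalizer (A : Set X) := by
      refine normalizer_of_maps ?_
      rintro g hg _ ⟨a, ha, rfl⟩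
      exact ⟨⟨g, hg⟩ * a * (⟨g, hg⟩ : G)⁻¹, hnA.conj_mem a ha _, rfl⟩
    have hRA : R ≤ Subgroup.normalizer (A : Set X) := by
      refine normalizer_of_maps ?_
      rintro g hg _ ⟨a, ha, rfl⟩
      refine ⟨G.normalizerMonoidHom ⟨g, hnorm hg⟩ a, ?_, rfl⟩
      have hle : (pCore (q : ℕ) ↥G).map (G.normalizerMonoidHom ⟨g, hnorm hg⟩).toMonoidHom ≤ pCore (q : ℕ) ↥G := by
        haveI : ((pCore (q : ℕ) ↥G).map (G.normalizerMonoidHom ⟨g, hnorm hg⟩).toMonoidHom).Normal :=
          hnA.map _ (G.normalizerMonoidHom ⟨g, hnorm hg⟩).surjective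
        exact CfsgLib.le_pCore ((CfsgLib.isPGroup_pCore (q : ℕ)).map _)
      exact hle ⟨a, ha, rfl⟩
    refine centralizes_pgroup hqr hR hRY (hcop.coprime_dvd_left (Subgroup.card_dvd_of_le hYG)) hYgen hYperf hAp
      (hYG.trans hGA) hRA (hfix A hAG hGA fun K hK hle => ?_)
    haveI := (hAp.to_le hle).isNilpotent
    exact CfsgLib.isQuasisimple_not_isSolvable hK.1.quasisimple inferInstance
  -- the layer
  obtain ⟨T, B, hBWY, hBperf, hYB, hBT⟩ := exists_centralized_sylow hr2 hR hcop (layerIn_le G) hYG hRW hRY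
    (hYG.trans hGW) hYperf hYgen (hfix W (layerIn_le G) hGW fun K hK => hK.2)
  have hBG : B ≤ G := hBWY.trans (sup_le (layerIn_le G) hYG)
  have hYW : Y ≤ W := le_layerIn_of_covered hYG hYperf hBG (centralizes_layerIn hBG hBperf T hBT) hYB hF
  have hcentR : ∀ K ∈ S, ⁅K, R⁆ = ⊥ := fun K hK => by
    by_contra h
    exact hK.2 ((le_sSup (show K ∈ S1 from ⟨hK, h⟩)).trans hYW)
  -- the components centralised by `R`
  set E1 := sSup S with hE1
  have hHE : H ≤ Subgroup.normalizer (E1 : Set X) := normalizer_of_maps fun g hg x hx =>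
    map_sSup_le (hSconj g (Subgroup.le_normalizer hg) (hGW (hHG hg))) hx
  have hER : ⁅E1, R⁆ = ⊥ := Subgroup.commutator_eq_bot_iff_le_centralizer.mpr
    (sSup_le fun K hK => Subgroup.commutator_eq_bot_iff_le_centralizer.mp (hcentR K hK))
  have h1 : ⁅⁅H, E1⁆, R⁆ = ⊥ := le_bot_iff.mp (hER ▸ Subgroup.commutator_mono
    (Subgroup.commutator_comm H E1 ▸ CfsgLib.commutator_le_of_le_normalizer hHE) le_rfl)
  have h2 : ⁅⁅E1, R⁆, H⁆ = ⊥ := by rw [hER]; exact Subgroup.commutator_bot_left _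
  have h3 := Subgroup.commutator_commutator_eq_bot_of_rotate (H₁ := R) (H₂ := H) (H₃ := E1) h1 h2
  rw [Subgroup.commutator_comm R H, hHR] at h3
  refine layerIn_le_of_forall fun K hK => ?_
  by_contra hKW
  refine hK.ne_bot (le_bot_iff.mp ?_)
  rw [← hK.perfect, ← h3]
  exact Subgroup.commutator_mono hK.le (le_sSup ⟨hK, hKW⟩)

end CfsgLib.Flavell1933
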