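import Cfsg.Agent.Lib.FlavellA.Main
import Cfsg.Agent.Lib.FrobAction.QGroupModule

/-!
A perfect group generated by its commutators with a group `R` of prime order acts trivially on an elementary
abelian group on which `R` fixes only one: LEMMA A turned into a statement about subgroups.
-/

set_option autoImplicit false
set_option linter.unusedSectionVars false
set_option linter.style.haveILetI false

namespace CfsgLib.Flavell1933

open scoped commutatorElement

universe u

variable {X : Type u} [Group X] [Finite X]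

/-- A normalised elementary abelian subgroup as a module over an algebraically closed field. -/
theorem exists_rep (p : ℕ) [Fact p.Prime] (M R V : Subgroup X) [IsMulCommutative V] (hVp : ∀ v ∈ V, v ^ p = 1)
    (hRM : R ≤ M) (hMV : M ≤ Subgroup.normalizer (V : Set X))
    (hCV : V ⊓ Subgroup.centralizer (R : Set X) = ⊥) :
    ∃ (W : Type u) (_ : AddCommGroup W) (_ : Module (AlgebraicClosure (ZMod p)) W)
      (_ : FiniteDimensional (AlgebraicClosure (ZMod p)) W)
      (α : M →* Module.End (AlgebraicClosure (ZMod p)) W),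
      (∀ v : W, (∀ σ : M, (σ : X) ∈ R → α σ v = v) → v = 0) ∧
      ∀ h, α h = 1 → (h : X) ∈ Subgroup.centralizer (V : Set X) := by
  classical
  letI : CommGroup V := { mul_comm := mul_comm' }
  have hVp' : ∀ a : Additive V, p • a = 0 := fun a => Subtype.ext (hVp (a.toMul : V) (a.toMul : V).2)
  letI : Module (ZMod p) (Additive V) := AddCommGroup.zmodModule (n := p) (G := Additive V) hVp'
  have : Module.Finite (ZMod p) (Additive V) := Module.Finite.of_finite
  let L : M →* Module.End (ZMod p) (Additive V) :=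
    { toFun := fun a => AddMonoidHom.toZModLinearMap p
        (MonoidHom.toAdditive ((QGroupModule.conjAut M V hMV a : MulAut V) : V →* V))
      map_one' := LinearMap.ext fun v => Subtype.ext (by
        show ((QGroupModule.conjAut M V hMV 1 (Additive.toMul v) : V) : X) = _
        rw [map_one]; rfl)
      map_mul' := fun a b => LinearMap.ext fun v => Subtype.ext (by
        show ((QGroupModule.conjAut M V hMV (a * b) (Additive.toMul v) : V) : X) = _
        rw [map_mul]; rfl) }
  let K := AlgebraicClosure (ZMod p)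
  let bc := (Module.End.baseChangeHom (ZMod p) K (Additive V)).toMonoidHom
  refine ⟨TensorProduct (ZMod p) K (Additive V), inferInstance, inferInstance, inferInstance,
    bc.comp L, fun v hv => ?_, fun h hh => ?_⟩
  · set f : R → Module.End (ZMod p) (Additive V) := fun σ => L ⟨σ, hRM σ.2⟩ with hf
    have h0 : CfsgLib.FrobAction.fixedSub f = ⊥ := by
      rw [Submodule.eq_bot_iff]
      intro a ha
      rw [CfsgLib.FrobAction.mem_fixedSub] at ha
      have hmem : ((a.toMul : V) : X) ∈ V ⊓ Subgroup.centralizer (R : Set X) := by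
        refine Subgroup.mem_inf.2 ⟨(a.toMul : V).2, Subgroup.mem_centralizer_iff.2 fun x hx => ?_⟩
        have h1 : x * ((a.toMul : V) : X) * x⁻¹ = ((a.toMul : V) : X) := congrArg Subtype.val (ha ⟨x, hx⟩)
        exact mul_inv_eq_iff_eq_mul.1 h1
      rw [hCV, Subgroup.mem_bot] at hmem
      exact Subtype.ext hmem
    have h1 := CfsgLib.FrobAction.finrank_fixedSub_baseChange K f
    rw [h0, finrank_bot, Submodule.finrank_eq_zero] at h1
    have hmem : v ∈ CfsgLib.FrobAction.fixedSub fun i => LinearMap.baseChange K (f i) :=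
      CfsgLib.FrobAction.mem_fixedSub.2 fun i => hv ⟨i, hRM i.2⟩ i.2
    rwa [h1, Submodule.mem_bot] at hmem
  · rw [Subgroup.mem_centralizer_iff]
    intro x hx
    have hL : L h = 1 := by
      refine LinearMap.ext fun a => ?_
      have h1 := LinearMap.congr_fun hh ((1 : K) ⊗ₜ[ZMod p] a)
      exact Module.FaithfullyFlat.tensorProduct_mk_injective (A := ZMod p) (B := K) (Additive V) h1
    have h2 : (h : X) * x * (h : X)⁻¹ = x :=
      congrArg Subtype.val (LinearMap.congr_fun hL (Additive.ofMul (⟨x, hx⟩ : V)))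
    exact (mul_inv_eq_iff_eq_mul.1 h2).symm

/-- A perfect `p`-group by `2`-group is trivial. -/
theorem pTwo_perfect_bot {Y : Type u} [Group Y] [Finite Y] {p : ℕ} [Fact p.Prime] {G : Subgroup Y}
    (h : FlavellA.PTwo p G) (hperf : ⁅G, G⁆ = G) : G = ⊥ := by
  by_contra hne
  obtain ⟨Q, hQG, hQp, hQn, hj⟩ := h
  haveI : Group.IsPerfect ↥G := Subgroup.isPerfect_iff.mpr hperf
  haveI : Nontrivial ↥G := (Subgroup.nontrivial_iff_ne_bot G).2 hne
  haveI hn : (Q.subgroupOf G).Normal := (Subgroup.normal_subgroupOf_iff_le_normalizer hQG).mpr hQn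
  haveI : Fact (Nat.Prime 2) := ⟨Nat.prime_two⟩
  have h1 : IsPGroup 2 (↥G ⧸ Q.subgroupOf G) := by
    intro x
    obtain ⟨a, rfl⟩ := QuotientGroup.mk_surjective x
    obtain ⟨j, hj'⟩ := hj a a.2
    refine ⟨j, ?_⟩
    rw [← QuotientGroup.mk_pow, QuotientGroup.eq_one_iff, Subgroup.mem_subgroupOf, Subgroup.coe_pow]
    exact hj'
  haveI := h1.isNilpotent
  have h2 : IsPGroup p ↥(Q.subgroupOf G) := hQp.of_equiv (Subgroup.subgroupOfEquivOfLe hQG).symm
  haveI := h2.isNilpotent
  exact Group.IsPerfect.not_isSolvable ↥G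
    ((Group.isSolvable_iff_subgroup_quotient (Q.subgroupOf G)).mpr ⟨inferInstance, inferInstance⟩)

/-- A perfect `B = [B, R]` acts trivially on an elementary abelian group on which `R` fixes only one. -/
theorem centralizes_elementary {p r : ℕ} [Fact p.Prime] (hr : r.Prime) {B R V : Subgroup X}
    [IsMulCommutative V] (hVp : ∀ v ∈ V, v ^ p = 1) (hR : Nat.card R = r)
    (hRB : R ≤ Subgroup.normalizer (B : Set X)) (hcop : (Nat.card B).Coprime r)
    (hgen : ⁅B, R⁆ = B) (hperf : ⁅B, B⁆ = B) (hBV : B ≤ Subgroup.normalizer (V : Set X))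
    (hRV : R ≤ Subgroup.normalizer (V : Set X)) (hCV : V ⊓ Subgroup.centralizer (R : Set X) = ⊥) :
    B ≤ Subgroup.centralizer (V : Set X) := by
  obtain ⟨W, _, _, _, α, hfix, hker⟩ := exists_rep p (B ⊔ R) R V hVp le_sup_right (sup_le hBV hRV) hCV
  have h := FlavellA.pTwo_image (p := p) (G := B) (R := R) (H := B ⊔ R) (FlavellA.main_upTo hr _) hr le_sup_left
    le_sup_right hR hRB hcop hgen α hfix le_rfl
  have hp2 : ⁅B.subgroupOf (B ⊔ R), B.subgroupOf (B ⊔ R)⁆ = B.subgroupOf (B ⊔ R) :=
    Subgroup.map_injective (B ⊔ R).subtype_injective (by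
      rw [Subgroup.map_commutator, Subgroup.map_subgroupOf_eq_of_le le_sup_left, hperf])
  have hbot := pTwo_perfect_bot h (by rw [← Subgroup.map_commutator, hp2])
  intro b hb
  refine hker ⟨b, Subgroup.mem_sup_left hb⟩ ?_
  have h1 : QuotientGroup.mk' α.toHomUnits.ker ⟨b, Subgroup.mem_sup_left hb⟩ = 1 := by
    rw [← Subgroup.mem_bot, ← hbot]
    exact ⟨_, hb, rfl⟩
  have h2 := congrArg Units.val (MonoidHom.mem_ker.1 ((QuotientGroup.eq_one_iff _).1 h1))
  rwa [MonoidHom.coe_toHomUnits] at h2

end CfsgLib.Flavell1933
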