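import Cfsg.Agent.Lib.Flavell1933.Module
import Cfsg.Agent.Lib.Coprime

/-!
A perfect `B = [B, R]` centralising the fixed points of `R` on a `q`-group centralises the `q`-group.
-/

set_option autoImplicit false
set_option linter.unusedSectionVars false
set_option linter.style.haveILetI false

namespace CfsgLib.Flavell1933

open scoped commutatorElement

universe u

theorem comm_of_bot {X : Type u} [Group X] {A B : Subgroup X} (h : ⁅A, B⁆ = ⊥) {a b : X} (ha : a ∈ A)
    (hb : b ∈ B) : a * b = b * a :=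
  ((Subgroup.commutator_eq_bot_iff_le_centralizer.mp h ha) b hb).symm

theorem bot_of_comm {X : Type u} [Group X] {A B : Subgroup X} (h : ∀ a ∈ A, ∀ b ∈ B, a * b = b * a) :
    ⁅A, B⁆ = ⊥ :=
  Subgroup.commutator_eq_bot_iff_le_centralizer.mpr fun a ha b hb => (h a ha b hb).symm

/-- Three subgroups: a perfect group centralising `[V, B]` centralises `V`. -/
theorem perfect_centralizes {X : Type u} [Group X] {B V : Subgroup X} (hperf : ⁅B, B⁆ = B)
    (h : ⁅⁅V, B⁆, B⁆ = ⊥) : ⁅V, B⁆ = ⊥ := by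
  have h1 : ⁅⁅B, V⁆, B⁆ = ⊥ := by rwa [Subgroup.commutator_comm B V]
  have h3 := Subgroup.commutator_commutator_eq_bot_of_rotate (H₁ := B) (H₂ := B) (H₃ := V) h1 h
  rwa [hperf, Subgroup.commutator_comm] at h3

/-- The conjugate of an element by an element normalising a subgroup centralising it. -/
theorem centralizer_conj {X : Type u} [Group X] [Finite X] {B R : Subgroup X}
    (hRB : R ≤ Subgroup.normalizer (B : Set X)) :
    R ≤ Subgroup.normalizer (Subgroup.centralizer (B : Set X) : Set X) := by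
  intro g hg
  rw [Subgroup.mem_normalizer_iff]
  have key : ∀ g ∈ R, ∀ x, x ∈ Subgroup.centralizer (B : Set X) → g * x * g⁻¹ ∈ Subgroup.centralizer (B : Set X) := by
    intro g hg x hx
    rw [Subgroup.mem_centralizer_iff] at hx ⊢
    intro b hb
    have hb' : g⁻¹ * b * g ∈ B := by
      simpa using (Subgroup.mem_normalizer_iff.mp (Subgroup.inv_mem _ (hRB hg)) b).mp hb
    calc b * (g * x * g⁻¹) = g * ((g⁻¹ * b * g) * x) * g⁻¹ := by group
      _ = g * (x * (g⁻¹ * b * g)) * g⁻¹ := by rw [hx _ hb']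
      _ = (g * x * g⁻¹) * b := by group
  intro x
  refine ⟨key g hg x, fun h => ?_⟩
  have := key g⁻¹ (R.inv_mem hg) _ h
  simpa [mul_assoc] using this

theorem centralizes_pgroup_aux {q r : ℕ} [Fact q.Prime] [Fact r.Prime] (hqr : q ≠ r) (n : ℕ) :
    ∀ (X : Type u) [Group X] [Finite X], Nat.card X = n → ∀ B R V : Subgroup X, Nat.card R = r →
      R ≤ Subgroup.normalizer (B : Set X) → (Nat.card B).Coprime r → ⁅B, R⁆ = B → ⁅B, B⁆ = B →
      IsPGroup q V → B ≤ Subgroup.normalizer (V : Set X) → R ≤ Subgroup.normalizer (V : Set X) →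
      ⁅V ⊓ Subgroup.centralizer (R : Set X), B⁆ = ⊥ → ⁅V, B⁆ = ⊥ := by
  induction n using Nat.strong_induction_on with
  | _ n ih =>
  intro X _ _ hn B R V hR hRB hcop hgen hperf hV hBV hRV hfix
  classical
  subst hn
  set N := V ⊓ Subgroup.centralizer (B : Set X) with hN
  have hfixN : V ⊓ Subgroup.centralizer (R : Set X) ≤ N :=
    le_inf inf_le_left (Subgroup.commutator_eq_bot_iff_le_centralizer.mp hfix)
  have hBN : B ≤ Subgroup.normalizer (N : Set X) := by
    intro b hb
    rw [Subgroup.mem_normalizer_iff]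
    intro x
    constructor
    · intro hx
      rw [← Subgroup.mem_centralizer_iff.mp (Subgroup.mem_inf.mp hx).2 b hb |>.symm] at *
      simpa using hx
    · intro hx
      have h1 := Subgroup.mem_centralizer_iff.mp (Subgroup.mem_inf.mp hx).2 b hb
      have h2 : b * x * b⁻¹ = x := by
        have h3 : b * (b * x * b⁻¹) * b⁻¹ = b * x * b⁻¹ := by rw [h1]; group
        have h4 : b * x * b⁻¹ = x := by
          apply mul_left_cancel (a := b)
          calc b * (b * x * b⁻¹) = (b * x * b⁻¹) * b := h1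
            _ = b * x := by group
        exact h4
      rwa [h2] at hx
  have hRN : R ≤ Subgroup.normalizer (N : Set X) :=
    (le_inf hRV (centralizer_conj hRB)).trans (Subgroup.inf_normalizer_le_normalizer_inf)
  by_cases hNV : N = V
  · exact Subgroup.commutator_eq_bot_iff_le_centralizer.mpr (hNV.ge.trans inf_le_right)
  exfalso
  by_cases hN0 : N = ⊥
  · -- the elementary abelian part of the centre
    have hVne : V ≠ ⊥ := fun h => hNV (by rw [hN0, h])
    haveI : Nontrivial V := (Subgroup.nontrivial_iff_ne_bot V).2 hVne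
    obtain ⟨z, hz⟩ : ∃ z : Subgroup.center V, orderOf z = q := by
      refine exists_prime_orderOf_dvd_card' q ?_
      obtain ⟨k, hk⟩ := (hV.to_subgroup (Subgroup.center V)).exists_card_eq
      rcases Nat.eq_zero_or_pos k with rfl | hk0
      · haveI := hV.center_nontrivial
        have := Finite.one_lt_card (α := Subgroup.center V)
        rw [hk, pow_zero] at this
        omega
      · rw [hk]; exact dvd_pow_self q hk0.ne'
    let A : Subgroup X :=
      { carrier := {v | v ∈ V ∧ v ^ q = 1 ∧ ∀ w ∈ V, w * v = v * w}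
        one_mem' := ⟨V.one_mem, one_pow q, fun w _ => by rw [mul_one, one_mul]⟩
        mul_mem' := fun {a b} ha hb => ⟨V.mul_mem ha.1 hb.1, by
            rw [(show Commute a b from hb.2.2 a ha.1).mul_pow, ha.2.1, hb.2.1, one_mul],
          fun w hw => ((show Commute w a from ha.2.2 w hw).mul_right (hb.2.2 w hw)).eq⟩
        inv_mem' := fun {a} ha => ⟨V.inv_mem ha.1, by rw [inv_pow, ha.2.1, inv_one],
          fun w hw => (show Commute w a from ha.2.2 w hw).inv_right.eq⟩ }
    haveI : IsMulCommutative A := ⟨⟨fun a b => Subtype.ext (b.2.2.2 a a.2.1)⟩⟩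
    have hnormA : ∀ M : Subgroup X, M ≤ Subgroup.normalizer (V : Set X) → M ≤ Subgroup.normalizer (A : Set X) := by
      intro M hM g hg
      have key : ∀ g ∈ M, ∀ x ∈ A, g * x * g⁻¹ ∈ A := by
        intro g hg x hx
        have hgV := Subgroup.mem_normalizer_iff.mp (hM hg)
        refine ⟨(hgV x).mp hx.1, by rw [conj_pow, hx.2.1, mul_one, mul_inv_cancel], fun w hw => ?_⟩
        have hw' : g⁻¹ * w * g ∈ V := by
          simpa using (Subgroup.mem_normalizer_iff.mp (Subgroup.inv_mem _ (hM hg)) w).mp hw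
        calc w * (g * x * g⁻¹) = g * ((g⁻¹ * w * g) * x) * g⁻¹ := by group
          _ = g * (x * (g⁻¹ * w * g)) * g⁻¹ := by rw [hx.2.2 _ hw']
          _ = (g * x * g⁻¹) * w := by group
      rw [Subgroup.mem_normalizer_iff]
      intro x
      refine ⟨key g hg x, fun h => ?_⟩
      have := key g⁻¹ (M.inv_mem hg) _ h
      simpa [mul_assoc] using this
    have hCA : A ⊓ Subgroup.centralizer (R : Set X) = ⊥ := by
      rw [eq_bot_iff, ← hN0]
      exact le_trans (inf_le_inf_right _ fun a ha => ha.1) hfixN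
    have hBA := centralizes_elementary (Fact.out : r.Prime) (fun a (ha : a ∈ A) => ha.2.1) hR hRB hcop hgen hperf
      (hnormA B hBV) (hnormA R hRV) hCA
    have hzA : ((z : V) : X) ∈ A := by
      refine ⟨(z : V).2, ?_, fun w hw => congrArg Subtype.val (Subgroup.mem_center_iff.mp z.2 ⟨w, hw⟩)⟩
      have h1 : z ^ q = 1 := hz ▸ pow_orderOf_eq_one z
      exact congrArg (fun y : Subgroup.center V => ((y : V) : X)) h1
    have h1 : ((z : V) : X) ∈ N :=
      Subgroup.mem_inf.mpr ⟨(z : V).2, (Subgroup.le_centralizer_iff.mp hBA) hzA⟩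
    rw [hN0, Subgroup.mem_bot] at h1
    have h2 : z = 1 := Subtype.ext (Subtype.ext h1)
    rw [h2, orderOf_one] at hz
    exact (Fact.out : q.Prime).one_lt.ne hz
  -- the quotient of the normalizer
  set G1 := Subgroup.normalizer (N : Set X) with hG1
  set V1 := V ⊓ G1 with hV1
  have hNV' : N < V := lt_of_le_of_ne inf_le_left hNV
  have hNV1 : N < V1 := by
    haveI := hV.isNilpotent
    have hlt : N.subgroupOf V < ⊤ := lt_top_iff_ne_top.2 fun h =>
      hNV (le_antisymm inf_le_left (Subgroup.subgroupOf_eq_top.mp h))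
    obtain ⟨g, hg, hgN⟩ := SetLike.exists_of_lt (Group.normalizerCondition_of_isNilpotent _ hlt)
    refine lt_of_le_of_ne (le_inf inf_le_left Subgroup.le_normalizer) fun h => hgN ?_
    show (g : X) ∈ N
    rw [h]
    refine Subgroup.mem_inf.mpr ⟨g.2, Subgroup.mem_normalizer_iff.mpr fun x => ⟨fun hx => ?_, fun hx => ?_⟩⟩
    · exact (Subgroup.mem_normalizer_iff.mp hg ⟨x, (Subgroup.mem_inf.mp hx).1⟩).mp hx
    · have hxV : x ∈ V := by
        have h1 := V.mul_mem (V.mul_mem (V.inv_mem g.2) (Subgroup.mem_inf.mp hx).1) g.2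
        simpa [mul_assoc] using h1
      exact (Subgroup.mem_normalizer_iff.mp hg ⟨x, hxV⟩).mpr hx
  set f := QuotientGroup.mk' (N.subgroupOf G1) with hf
  set B' := (B.subgroupOf G1).map f with hB'
  set R' := (R.subgroupOf G1).map f with hR'
  set V' := (V1.subgroupOf G1).map f with hV'
  have hcardlt : Nat.card (↥G1 ⧸ N.subgroupOf G1) < Nat.card X := by
    refine lt_of_lt_of_le ?_ (Subgroup.card_le_card_group G1)
    rw [Subgroup.card_eq_card_quotient_mul_card_subgroup (N.subgroupOf G1)]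
    refine lt_mul_of_one_lt_right Nat.card_pos ?_
    rw [Nat.card_congr (Subgroup.subgroupOfEquivOfLe (Subgroup.le_normalizer : N ≤ G1)).toEquiv]
    exact (Subgroup.one_lt_card_iff_ne_bot N).mpr hN0
  have hcardR : Nat.card R' = r := by
    have hdvd : Nat.card R' ∣ r := by
      rw [← hR, ← Nat.card_congr (Subgroup.subgroupOfEquivOfLe hRN).toEquiv]
      exact Subgroup.card_map_dvd _ _
    refine ((Nat.dvd_prime Fact.out).1 hdvd).resolve_left fun h1 => ?_
    have hb : R' = ⊥ := Subgroup.card_eq_one.mp h1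
    obtain ⟨σ, hσ⟩ : ∃ σ : R, σ ≠ 1 := by
      haveI : Nontrivial R := Finite.one_lt_card_iff_nontrivial.mp (hR ▸ (Fact.out : r.Prime).one_lt)
      exact exists_ne 1
    have h2 : f ⟨σ, hRN σ.2⟩ ∈ R' := ⟨_, σ.2, rfl⟩
    rw [hb, Subgroup.mem_bot, hf, QuotientGroup.mk'_apply, QuotientGroup.eq_one_iff] at h2
    obtain ⟨k, hk⟩ := hV ⟨σ, (Subgroup.mem_inf.mp (show (σ : X) ∈ N from h2)).1⟩
    have h3 : orderOf (σ : X) ∣ q ^ k := orderOf_dvd_of_pow_eq_one (congrArg Subtype.val hk)
    have h4 : orderOf (σ : X) ∣ r := by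
      rw [← hR, Subgroup.orderOf_coe]; exact orderOf_dvd_natCard _
    have h5 := Nat.eq_one_of_dvd_coprimes
      (((Nat.coprime_primes (Fact.out : q.Prime) (Fact.out : r.Prime)).2 hqr).pow_left k) h3 h4
    exact hσ (Subtype.ext (orderOf_eq_one_iff.mp h5))
  have hsub : ∀ A : Subgroup X, A ≤ G1 → ⁅A.subgroupOf G1, A.subgroupOf G1⁆ = (⁅A, A⁆).subgroupOf G1 := by
    intro A hA
    refine Subgroup.map_injective G1.subtype_injective ?_
    rw [Subgroup.map_commutator, Subgroup.map_subgroupOf_eq_of_le hA, Subgroup.map_subgroupOf_eq_of_le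
      ((Subgroup.commutator_le.2 fun a ha b hb => A.mul_mem (A.mul_mem (A.mul_mem ha hb) (A.inv_mem ha)) (A.inv_mem hb)).trans hA)]
  have hperf' : ⁅B', B'⁆ = B' := by rw [hB', ← Subgroup.map_commutator, hsub B hBN, hperf]
  have hgen' : ⁅B', R'⁆ = B' := by
    rw [hB', hR', ← Subgroup.map_commutator]
    congr 1
    refine Subgroup.map_injective G1.subtype_injective ?_
    rw [Subgroup.map_commutator, Subgroup.map_subgroupOf_eq_of_le hBN, Subgroup.map_subgroupOf_eq_of_le hRN, hgen]
  have hnorm : ∀ A M : Subgroup X, M ≤ Subgroup.normalizer (A : Set X) →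
      (M.subgroupOf G1).map f ≤ Subgroup.normalizer ((A.subgroupOf G1).map f : Set (↥G1 ⧸ N.subgroupOf G1)) := by
    intro A M hM
    refine (Subgroup.map_mono ?_).trans (Subgroup.le_normalizer_map f)
    intro x hx
    exact Subgroup.mem_normalizer_iff.2 fun y => Subgroup.mem_normalizer_iff.1 (hM hx) y
  have hV1n : ∀ M : Subgroup X, M ≤ Subgroup.normalizer (V : Set X) → M ≤ G1 →
      M ≤ Subgroup.normalizer (V1 : Set X) := fun M hM hMG =>
    (le_inf hM (hMG.trans Subgroup.le_normalizer)).trans Subgroup.inf_normalizer_le_normalizer_inf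
  have hfix' : ⁅V' ⊓ Subgroup.centralizer (R' : Set (↥G1 ⧸ N.subgroupOf G1)), B'⁆ = ⊥ := by
    suffices h : V' ⊓ Subgroup.centralizer (R' : Set (↥G1 ⧸ N.subgroupOf G1)) = ⊥ by
      rw [h]; exact Subgroup.commutator_bot_left _
    rw [eq_bot_iff]
    rintro _ ⟨⟨v, hv, rfl⟩, hvc⟩
    have hsolv : Group.IsSolvable R := by
      haveI : IsCyclic R := isCyclic_of_prime_card hR
      letI : CommGroup R := IsCyclic.commGroup
      exact Group.isSolvable_of_comm fun a b => mul_comm a b
    have hcopRV : (Nat.card R).Coprime (Nat.card V1) := by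
      obtain ⟨k, hk⟩ := (hV.to_le (inf_le_left : V1 ≤ V)).exists_card_eq
      rw [hR, hk]
      exact (((Nat.coprime_primes (Fact.out : q.Prime) (Fact.out : r.Prime)).2 hqr).symm).pow_right k
    obtain ⟨c, hc, hcv⟩ := CfsgLib.coprime_fixed_quotient (A := R) (K := V1) (N := N) (hV1n R hRV hRN) hcopRV
      (Or.inl hsolv) hNV1.le inf_le_right hRN hv (fun a ha => by
        have h1 := hvc (f ⟨a, hRN ha⟩) ⟨_, ha, rfl⟩
        rw [← map_mul, ← map_mul, hf, QuotientGroup.mk'_apply, QuotientGroup.mk'_apply, QuotientGroup.eq] at h1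
        have h2 := Subgroup.mem_subgroupOf.mp h1
        push_cast at h2
        have h3 := (Subgroup.mem_normalizer_iff.mp (G1.mul_mem v.2 (hRN ha)) _).mp h2
        have h4 := N.inv_mem h3
        convert h4 using 1
        show (a : X) * (v : X) * a⁻¹ * (v : X)⁻¹ = _
        group)
    have hcN : c ∈ N := hfixN ⟨(Subgroup.mem_inf.mp (Subgroup.mem_inf.mp hc).1).1, (Subgroup.mem_inf.mp hc).2⟩
    have hvN : (v : X) ∈ N := by
      rw [show (v : X) = c * ((v : X)⁻¹ * c)⁻¹ by group]
      exact N.mul_mem hcN (N.inv_mem hcv)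
    exact Subgroup.mem_bot.mpr ((QuotientGroup.eq_one_iff v).mpr hvN)
  have hcopB : (Nat.card B').Coprime r := by
    refine Nat.Coprime.coprime_dvd_left ?_ hcop
    rw [← Nat.card_congr (Subgroup.subgroupOfEquivOfLe hBN).toEquiv]
    exact Subgroup.card_map_dvd _ _
  have hV'p : IsPGroup q V' :=
    (((hV.to_le (inf_le_left : V1 ≤ V)).of_equiv (Subgroup.subgroupOfEquivOfLe inf_le_right).symm)).map f
  have h := ih _ hcardlt (↥G1 ⧸ N.subgroupOf G1) rfl B' R' V' hcardR (hnorm B R hRB) hcopB hgen' hperf' hV'p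
    (hnorm V1 B (hV1n B hBV hBN)) (hnorm V1 R (hV1n R hRV hRN)) hfix'
  have hle : ⁅V1, B⁆ ≤ N := by
    rw [Subgroup.commutator_le]
    intro a ha b hb
    have h1 : f ⁅(⟨a, (Subgroup.mem_inf.mp ha).2⟩ : G1), ⟨b, hBN hb⟩⁆ = 1 := by
      rw [← Subgroup.mem_bot, ← h, map_commutatorElement]
      exact Subgroup.commutator_mem_commutator ⟨_, ha, rfl⟩ ⟨_, hb, rfl⟩
    exact (QuotientGroup.eq_one_iff (N := N.subgroupOf G1) _).mp h1
  have h2 := perfect_centralizes hperf (le_bot_iff.mp ((Subgroup.commutator_mono hle le_rfl).trans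
    (Subgroup.commutator_eq_bot_iff_le_centralizer.mpr inf_le_right).le))
  exact hNV1.not_ge (le_inf inf_le_left (Subgroup.commutator_eq_bot_iff_le_centralizer.mp h2))

/-- A perfect `B = [B, R]` centralising the fixed points of `R` on a `q`-group centralises the `q`-group. -/
theorem centralizes_pgroup {X : Type u} [Group X] [Finite X] {q r : ℕ} [Fact q.Prime] [Fact r.Prime] (hqr : q ≠ r)
    {B R V : Subgroup X} (hR : Nat.card R = r) (hRB : R ≤ Subgroup.normalizer (B : Set X))
    (hcop : (Nat.card B).Coprime r) (hgen : ⁅B, R⁆ = B) (hperf : ⁅B, B⁆ = B) (hV : IsPGroup q V)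
    (hBV : B ≤ Subgroup.normalizer (V : Set X)) (hRV : R ≤ Subgroup.normalizer (V : Set X))
    (hfix : ⁅V ⊓ Subgroup.centralizer (R : Set X), B⁆ = ⊥) : ⁅V, B⁆ = ⊥ :=
  centralizes_pgroup_aux hqr _ X rfl B R V hR hRB hcop hgen hperf hV hBV hRV hfix

end CfsgLib.Flavell1933
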