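import Cfsg.Agent.Lib.Flavell1933.PGroup

/-!
If a perfect `Y = [Y, R]` acts on `W` and centralises the fixed points of `R` in `W`, then a Sylow
`2`-subgroup of `W` is centralised by a perfect subgroup that covers `Y` modulo `W`.
-/

set_option autoImplicit false
set_option linter.unusedSectionVars false
set_option linter.style.haveILetI false

namespace CfsgLib.Flavell1933

open scoped commutatorElement Pointwise

universe u

variable {X : Type u} [Group X] [Finite X]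

theorem normalizer_of_maps {A M : Subgroup X} (h : ∀ g ∈ M, ∀ x ∈ A, g * x * g⁻¹ ∈ A) :
    M ≤ Subgroup.normalizer (A : Set X) := by
  intro g hg
  rw [Subgroup.mem_normalizer_iff]
  intro x
  refine ⟨h g hg x, fun hx => ?_⟩
  have := h g⁻¹ (M.inv_mem hg) _ hx
  simpa [mul_assoc] using this

/-- Commutators modulo a normalised subgroup. -/
theorem commutator_sup_sup_le {W A C : Subgroup X} (hA : A ≤ Subgroup.normalizer (W : Set X))
    (hC : C ≤ Subgroup.normalizer (W : Set X)) : ⁅W ⊔ A, W ⊔ C⁆ ≤ W ⊔ ⁅A, C⁆ := by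
  set M := Subgroup.normalizer (W : Set X) with hM
  set f := QuotientGroup.mk' (W.subgroupOf M) with hf
  intro x hx
  have hWM : W ≤ M := Subgroup.le_normalizer
  have hmap : ∀ A : Subgroup X, A ≤ M → ((W ⊔ A).subgroupOf M).map f = (A.subgroupOf M).map f := by
    intro A hA
    rw [Subgroup.subgroupOf_sup hWM hA, Subgroup.map_sup, hf, QuotientGroup.map_mk'_self, bot_sup_eq]
  have hcl : ⁅W ⊔ A, W ⊔ C⁆ ≤ M :=
    Subgroup.commutator_le.2 fun a ha b hb => M.mul_mem (M.mul_mem (M.mul_mem (sup_le hWM hA ha) (sup_le hWM hC hb))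
      (M.inv_mem (sup_le hWM hA ha))) (M.inv_mem (sup_le hWM hC hb))
  have hsub : ∀ A C : Subgroup X, A ≤ M → C ≤ M → ⁅A.subgroupOf M, C.subgroupOf M⁆.map M.subtype = ⁅A, C⁆ := by
    intro A C hA hC
    rw [Subgroup.map_commutator, Subgroup.map_subgroupOf_eq_of_le hA, Subgroup.map_subgroupOf_eq_of_le hC]
  rw [← hsub _ _ (sup_le hWM hA) (sup_le hWM hC)] at hx
  obtain ⟨y, hy, rfl⟩ := hx
  have h1 : f y ∈ ⁅(A.subgroupOf M).map f, (C.subgroupOf M).map f⁆ := by
    rw [← hmap A hA, ← hmap C hC, ← Subgroup.map_commutator]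
    exact ⟨y, hy, rfl⟩
  rw [← Subgroup.map_commutator] at h1
  obtain ⟨z, hz, hzy⟩ := h1
  rw [hf, QuotientGroup.mk'_apply, QuotientGroup.mk'_apply, QuotientGroup.eq, Subgroup.mem_subgroupOf] at hzy
  have hzm : (z : X) ∈ ⁅A, C⁆ := by rw [← hsub A C hA hC]; exact ⟨z, hz, rfl⟩
  have hzW : (z : X) * ((z : X)⁻¹ * y) ∈ W ⊔ ⁅A, C⁆ :=
    Subgroup.mul_mem _ (Subgroup.mem_sup_right hzm) (Subgroup.mem_sup_left (by push_cast at hzy; exact hzy))
  rwa [mul_inv_cancel_left] at hzW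

/-- A supplement contains a perfect supplement generated by its commutators with `R`. -/
theorem exists_supplement {W A R Q : Subgroup X} (hAW : A ≤ Subgroup.normalizer (W : Set X))
    (hRW : R ≤ Subgroup.normalizer (W : Set X)) (hRA : R ≤ Subgroup.normalizer (A : Set X))
    (hperf : ⁅Q, Q⁆ = Q) (hgen : ⁅Q, R⁆ = Q) (hQ : Q ≤ W ⊔ A) :
    ∃ B ≤ A, R ≤ Subgroup.normalizer (B : Set X) ∧ ⁅B, B⁆ = B ∧ ⁅B, R⁆ = B ∧ Q ≤ W ⊔ B := by
  classical
  let P : ℕ → Prop := fun n => ∃ B ≤ A, R ≤ Subgroup.normalizer (B : Set X) ∧ Q ≤ W ⊔ B ∧ Nat.card B = n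
  have hex : ∃ n, P n := ⟨_, A, le_rfl, hRA, hQ, rfl⟩
  obtain ⟨B, hBA, hRB, hQB, hBn⟩ := Nat.find_spec hex
  have hmin : ∀ B' ≤ B, R ≤ Subgroup.normalizer (B' : Set X) → Q ≤ W ⊔ B' → B' = B := by
    intro B' hB' hR' hQ'
    refine Subgroup.eq_of_le_of_card_ge hB' ?_
    rw [hBn]
    exact Nat.find_min' hex ⟨B', hB'.trans hBA, hR', hQ', rfl⟩
  have hBW := hBA.trans hAW
  refine ⟨B, hBA, hRB, hmin _ ?_ ?_ ?_, hmin _ ?_ ?_ ?_, hQB⟩
  · exact CfsgLib.commutator_le_of_le_normalizer Subgroup.le_normalizer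
  · refine normalizer_of_maps fun g hg x hx => ?_
    have h1 : (⁅B, B⁆).map (MulAut.conj g).toMonoidHom = ⁅B, B⁆ := by
      have hB : B.map (MulAut.conj g).toMonoidHom = B := by
        refine Subgroup.eq_of_le_of_card_ge ?_ (Subgroup.card_map_of_injective (MulAut.conj g).injective).ge
        rintro _ ⟨b, hb, rfl⟩
        exact (Subgroup.mem_normalizer_iff.mp (hRB hg) b).mp hb
      rw [Subgroup.map_commutator, hB]
    rw [← h1]
    exact ⟨x, hx, rfl⟩
  · calc Q = ⁅Q, Q⁆ := hperf.symm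
      _ ≤ ⁅W ⊔ B, W ⊔ B⁆ := Subgroup.commutator_mono hQB hQB
      _ ≤ W ⊔ ⁅B, B⁆ := commutator_sup_sup_le hBW hBW
  · exact CfsgLib.commutator_le_of_le_normalizer hRB
  · exact CfsgLib.right_le_normalizer_commutator R B
  · calc Q = ⁅Q, R⁆ := hgen.symm
      _ ≤ ⁅W ⊔ B, W ⊔ R⁆ := Subgroup.commutator_mono hQB le_sup_right
      _ ≤ W ⊔ ⁅B, R⁆ := commutator_sup_sup_le hBW hRW

/-- Two subgroups of full Sylow order are conjugate. -/
theorem exists_conj_eq {p : ℕ} [Fact p.Prime] {M Z T T' : Subgroup X} (hTZ : T ≤ Z) (hT'Z : T' ≤ Z) (hZM : Z ≤ M)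
    (hT : Nat.card T = p ^ (Nat.card M).factorization p) (hT' : Nat.card T' = Nat.card T) :
    ∃ x ∈ Z, ∀ t ∈ T', x * t * x⁻¹ ∈ T := by
  have hfac : (Nat.card M).factorization p = (Nat.card Z).factorization p := by
    refine le_antisymm ?_ ((Nat.factorization_le_iff_dvd Nat.card_pos.ne' Nat.card_pos.ne').2
      (Subgroup.card_dvd_of_le hZM) p)
    exact (Nat.Prime.pow_dvd_iff_le_factorization Fact.out Nat.card_pos.ne').1 (hT ▸ Subgroup.card_dvd_of_le hTZ)
  rw [hfac] at hT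
  let P1 : Sylow p Z := Sylow.ofCard (T.subgroupOf Z)
    (by rw [Nat.card_congr (Subgroup.subgroupOfEquivOfLe hTZ).toEquiv, hT])
  let P2 : Sylow p Z := Sylow.ofCard (T'.subgroupOf Z)
    (by rw [Nat.card_congr (Subgroup.subgroupOfEquivOfLe hT'Z).toEquiv, hT', hT])
  obtain ⟨x, hx⟩ := MulAction.exists_smul_eq Z P2 P1
  refine ⟨x, x.2, fun t ht => ?_⟩
  have hmem : MulAut.conj x (⟨t, hT'Z ht⟩ : Z) ∈ T.subgroupOf Z := by
    have h1 : ((P1 : Subgroup Z)) = MulAut.conj x • (P2 : Subgroup Z) := by rw [← hx, Sylow.coe_subgroup_smul]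
    have h2 : (T.subgroupOf Z) = MulAut.conj x • (T'.subgroupOf Z) := h1
    rw [h2]
    exact Subgroup.smul_mem_pointwise_smul _ _ _ ht
  exact hmem

/-- A Sylow `2`-subgroup of `W` is centralised by a perfect subgroup covering `Y` modulo `W`. -/
theorem exists_centralized_sylow {r : ℕ} [Fact r.Prime] (hr2 : r ≠ 2) {G R W Y : Subgroup X}
    (hR : Nat.card R = r) (hcop : (Nat.card G).Coprime r) (hWG : W ≤ G) (hYG : Y ≤ G)
    (hRW : R ≤ Subgroup.normalizer (W : Set X)) (hRY : R ≤ Subgroup.normalizer (Y : Set X))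
    (hYW : Y ≤ Subgroup.normalizer (W : Set X)) (hperf : ⁅Y, Y⁆ = Y) (hgen : ⁅Y, R⁆ = Y)
    (hfix : ⁅W ⊓ Subgroup.centralizer (R : Set X), Y⁆ = ⊥) :
    ∃ T : Sylow 2 W, ∃ B ≤ W ⊔ Y, ⁅B, B⁆ = B ∧ Y ≤ W ⊔ B ∧
      B ≤ Subgroup.centralizer ((T : Subgroup W).map W.subtype : Set X) := by
  classical
  haveI : Fact (Nat.Prime 2) := ⟨Nat.prime_two⟩
  have hsolv : Group.IsSolvable R := by
    haveI : IsCyclic R := isCyclic_of_prime_card hR
    letI : CommGroup R := IsCyclic.commGroup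
    exact Group.isSolvable_of_comm fun a b => mul_comm a b
  have hcopR : ∀ A : Subgroup X, A ≤ G → (Nat.card R).Coprime (Nat.card A) := fun A hA => by
    rw [hR]; exact (hcop.coprime_dvd_left (Subgroup.card_dvd_of_le hA)).symm
  set C := W ⊓ Subgroup.centralizer (R : Set X) with hC
  obtain ⟨P0⟩ : Nonempty (Sylow 2 C) := inferInstance
  set P := (P0 : Subgroup C).map C.subtype with hP
  have hPC : P ≤ C := Subgroup.map_subtype_le _
  have hPmax : ∀ A : Subgroup X, IsPGroup 2 A → P ≤ A → A ≤ C → A ≤ P := by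
    intro A hA hPA hAC
    have h1 : A.subgroupOf C = (P0 : Subgroup C) :=
      P0.3 (hA.of_equiv (Subgroup.subgroupOfEquivOfLe hAC).symm) fun x hx => hPA ⟨x, hx, rfl⟩
    rw [hP, ← h1, Subgroup.map_subgroupOf_eq_of_le hAC]
  let Adm : Subgroup X → Prop := fun U => U ≤ W ∧ IsPGroup 2 U ∧ R ≤ Subgroup.normalizer (U : Set X) ∧ P ≤ U ∧
    ∃ B ≤ W ⊔ Y, R ≤ Subgroup.normalizer (B : Set X) ∧ ⁅B, B⁆ = B ∧ ⁅B, R⁆ = B ∧ Y ≤ W ⊔ B ∧
      B ≤ Subgroup.centralizer (U : Set X)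
  have hAdmP : Adm P := by
    refine ⟨hPC.trans inf_le_left, P0.2.map _, normalizer_of_maps fun g hg x hx => ?_, le_rfl, Y, le_sup_right, hRY,
      hperf, hgen, le_sup_right, ?_⟩
    · rw [← Subgroup.mem_centralizer_iff.mp (Subgroup.mem_inf.mp (hPC hx)).2 g hg |>.symm, mul_inv_cancel_right]
      exact hx
    · exact Subgroup.le_centralizer_iff.mp (hPC.trans (Subgroup.commutator_eq_bot_iff_le_centralizer.mp hfix))
  obtain ⟨U, hU, hUmax⟩ : ∃ U, Adm U ∧ ∀ U', Adm U' → Nat.card U' ≤ Nat.card U := by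
    haveI : Finite (Subgroup X) := Finite.of_injective (fun A : Subgroup X => (A : Set X)) SetLike.coe_injective
    obtain ⟨U, hU, hmax⟩ := Set.exists_max_image {U | Adm U} (fun U => Nat.card U) (Set.toFinite _) ⟨P, hAdmP⟩
    exact ⟨U, hU, hmax⟩
  obtain ⟨hUW, hUp, hRU, hPU, B, hBWY, hRB, hBp, hBg, hYB, hBU⟩ := hU
  have hBW : B ≤ Subgroup.normalizer (W : Set X) := hBWY.trans (sup_le Subgroup.le_normalizer hYW)
  -- a Sylow subgroup of the normalizer
  set W1 := W ⊓ Subgroup.normalizer (U : Set X) with hW1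
  have hRNU : R ≤ Subgroup.normalizer (Subgroup.normalizer (U : Set X) : Set X) := hRU.trans Subgroup.le_normalizer
  have hRW1 : R ≤ Subgroup.normalizer (W1 : Set X) :=
    (le_inf hRW hRNU).trans Subgroup.inf_normalizer_le_normalizer_inf
  obtain ⟨S, hS2, hS1⟩ := CfsgLib.coprime_le_invariant_sylow hRW1 (hcopR W1 (inf_le_left.trans hWG)) (Or.inl hsolv)
    (le_inf hUW Subgroup.le_normalizer) hUp hRU
  set T1 := (S : Subgroup W1).map W1.subtype with hT1
  have hT1W1 : T1 ≤ W1 := Subgroup.map_subtype_le _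
  have hT1p : IsPGroup 2 T1 := S.2.map _
  have hT1card : Nat.card T1 = 2 ^ (Nat.card W1).factorization 2 := by
    rw [hT1, Subgroup.card_map_of_injective W1.subtype_injective, Sylow.card_eq_multiplicity]
  have hUT1 : U ≤ T1 := hS2
  set C1 := W ⊓ Subgroup.centralizer (U : Set X) with hC1
  have hC1W1 : C1 ≤ W1 := inf_le_inf_left _ fun g hg => Subgroup.mem_normalizer_iff.2 fun x =>
    ⟨fun hx => by rw [← Subgroup.mem_centralizer_iff.mp hg x hx, mul_inv_cancel_right]; exact hx,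
     fun hx => by
      have h1 := Subgroup.mem_centralizer_iff.mp hg _ hx
      have h2 : g * x * g⁻¹ = x := by
        apply mul_left_cancel (a := g)
        calc g * (g * x * g⁻¹) = (g * x * g⁻¹) * g := h1.symm
          _ = g * x := by group
      rwa [h2] at hx⟩
  have hNC1 : ∀ g, g ∈ Subgroup.normalizer (W : Set X) → g ∈ Subgroup.normalizer (U : Set X) →
      ∀ c ∈ C1, g * c * g⁻¹ ∈ C1 := by
    intro g hgW hgU c hc
    refine Subgroup.mem_inf.mpr ⟨(Subgroup.mem_normalizer_iff.mp hgW c).mp (Subgroup.mem_inf.mp hc).1,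
      Subgroup.mem_centralizer_iff.mpr fun u hu => ?_⟩
    have hu' : g⁻¹ * u * g ∈ U := by
      simpa using (Subgroup.mem_normalizer_iff.mp (Subgroup.inv_mem _ hgU) u).mp hu
    have h1 := Subgroup.mem_centralizer_iff.mp (Subgroup.mem_inf.mp hc).2 _ hu'
    calc u * (g * c * g⁻¹) = g * ((g⁻¹ * u * g) * c) * g⁻¹ := by group
      _ = g * (c * (g⁻¹ * u * g)) * g⁻¹ := by rw [h1]
      _ = (g * c * g⁻¹) * u := by group
  have hBNU : B ≤ Subgroup.normalizer (U : Set X) := hBU.trans fun g hg => Subgroup.mem_normalizer_iff.2 fun x =>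
    ⟨fun hx => by rw [← Subgroup.mem_centralizer_iff.mp hg x hx, mul_inv_cancel_right]; exact hx,
     fun hx => by
      have h1 := Subgroup.mem_centralizer_iff.mp hg _ hx
      have h2 : g * x * g⁻¹ = x := by
        apply mul_left_cancel (a := g)
        calc g * (g * x * g⁻¹) = (g * x * g⁻¹) * g := h1.symm
          _ = g * x := by group
      rwa [h2] at hx⟩
  have hkey : ∀ b ∈ B, ∀ w ∈ W1, b * w * b⁻¹ * w⁻¹ ∈ C1 := by
    intro b hb w hw
    refine Subgroup.mem_inf.mpr ⟨W.mul_mem ((Subgroup.mem_normalizer_iff.mp (hBW hb) w).mp (Subgroup.mem_inf.mp hw).1)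
      (W.inv_mem (Subgroup.mem_inf.mp hw).1), Subgroup.mem_centralizer_iff.mpr fun u hu => ?_⟩
    have hcb : ∀ z ∈ U, b * z * b⁻¹ = z := fun z hz => by
      rw [← Subgroup.mem_centralizer_iff.mp (hBU hb) z hz, mul_inv_cancel_right]
    have hu1 : w⁻¹ * u * w ∈ U := by
      simpa using (Subgroup.mem_normalizer_iff.mp (Subgroup.inv_mem _ (Subgroup.mem_inf.mp hw).2) u).mp hu
    have h1 : b⁻¹ * u * b = u := by
      conv_lhs => rw [← hcb u hu]
      group
    have h2 := hcb _ hu1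
    have h3 : (b * w * b⁻¹ * w⁻¹)⁻¹ * u * (b * w * b⁻¹ * w⁻¹) = u := by
      calc (b * w * b⁻¹ * w⁻¹)⁻¹ * u * (b * w * b⁻¹ * w⁻¹)
          = w * (b * (w⁻¹ * (b⁻¹ * u * b) * w) * b⁻¹) * w⁻¹ := by group
        _ = w * (b * (w⁻¹ * u * w) * b⁻¹) * w⁻¹ := by rw [h1]
        _ = w * (w⁻¹ * u * w) * w⁻¹ := by rw [h2]
        _ = u := by group
    conv_rhs => rw [← h3]
    group
  have hT1NC : T1 ≤ Subgroup.normalizer (C1 : Set X) := normalizer_of_maps fun g hg c hc =>
    hNC1 g (Subgroup.le_normalizer (hT1W1 hg).1) (hT1W1 hg).2 c hc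
  set Z := C1 ⊔ T1 with hZ
  have hBC1 : B ≤ Subgroup.normalizer (C1 : Set X) := normalizer_of_maps fun g hg c hc =>
    hNC1 g (hBW hg) (hBNU hg) c hc
  set D := C1 ⊔ B with hD
  have hDU : D ≤ Subgroup.centralizer (U : Set X) := sup_le inf_le_right hBU
  set A := D ⊓ Subgroup.normalizer (T1 : Set X) with hA
  have hYA : Y ≤ W ⊔ A := by
    refine hYB.trans (sup_le le_sup_left fun b hb => ?_)
    have hcard : Nat.card (T1.map (MulAut.conj b).toMonoidHom) = Nat.card T1 :=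
      Subgroup.card_map_of_injective (MulAut.conj b).injective
    obtain ⟨x, hx, hxT⟩ := exists_conj_eq (p := 2) (M := W1) (Z := Z) (T := T1)
      (T' := T1.map (MulAut.conj b).toMonoidHom) le_sup_right (by
        rintro _ ⟨t, ht, rfl⟩
        show b * t * b⁻¹ ∈ Z
        rw [show b * t * b⁻¹ = (b * t * b⁻¹ * t⁻¹) * t by group]
        exact Subgroup.mul_mem_sup (hkey b hb t (hT1W1 ht)) ht) (sup_le hC1W1 hT1W1) hT1card hcard
    rw [hZ, sup_comm] at hx
    obtain ⟨t, ht, c, hc, rfl⟩ : ∃ t ∈ T1, ∃ c ∈ C1, t * c = x := by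
      rw [← SetLike.mem_coe, Subgroup.coe_mul_of_left_le_normalizer_right T1 C1 hT1NC] at hx
      exact Set.mem_mul.mp hx
    have hcb : c * b ∈ A := by
      refine Subgroup.mem_inf.mpr ⟨Subgroup.mul_mem_sup hc hb, ?_⟩
      have hmap : ∀ s ∈ T1, (c * b) * s * (c * b)⁻¹ ∈ T1 := by
        intro s hs
        have h1 := hxT _ ⟨s, hs, rfl⟩
        have h2 : t * c * (b * s * b⁻¹) * (t * c)⁻¹ ∈ T1 := h1
        have h3 := T1.mul_mem (T1.mul_mem (T1.inv_mem ht) h2) ht
        convert h3 using 1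
        group
      have hmapEq : T1.map (MulAut.conj (c * b)).toMonoidHom = T1 := by
        refine Subgroup.eq_of_le_of_card_ge ?_ (Subgroup.card_map_of_injective (MulAut.conj (c * b)).injective).ge
        rintro _ ⟨s, hs, rfl⟩
        exact hmap s hs
      refine Subgroup.mem_normalizer_iff.mpr fun s => ⟨hmap s, fun hs => ?_⟩
      rw [← hmapEq] at hs
      obtain ⟨s', hs', e⟩ := hs
      exact (MulAut.conj (c * b)).injective e ▸ hs'
    rw [show b = c⁻¹ * (c * b) by group]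
    exact Subgroup.mul_mem_sup (W.inv_mem (Subgroup.mem_inf.mp hc).1) hcb
  have hDW : D ≤ W ⊔ Y := sup_le (inf_le_left.trans le_sup_left) hBWY
  have hRC1 : R ≤ Subgroup.normalizer (C1 : Set X) := normalizer_of_maps fun g hg c hc =>
    hNC1 g (hRW hg) (hRU hg) c hc
  have hRA : R ≤ Subgroup.normalizer (A : Set X) := by
    refine (le_inf ?_ (hS1.trans Subgroup.le_normalizer)).trans Subgroup.inf_normalizer_le_normalizer_inf
    exact (le_inf hRC1 hRB).trans (Subgroup.normalizer_inf_normalizer_le_normalizer_sup _ _)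
  obtain ⟨B', hB'A, hRB', hB'p, hB'g, hYB'⟩ := exists_supplement
    ((inf_le_left.trans hDW).trans (sup_le Subgroup.le_normalizer hYW)) hRW hRA hperf hgen hYA
  have hB'U : B' ≤ Subgroup.centralizer (U : Set X) := hB'A.trans (inf_le_left.trans hDU)
  have hB'G : B' ≤ G := hB'A.trans (inf_le_left.trans (hDW.trans (sup_le hWG hYG)))
  have hcent : ⁅T1, B'⁆ = ⊥ := by
    refine centralizes_pgroup hr2.symm hR hRB' (hcop.coprime_dvd_left (Subgroup.card_dvd_of_le hB'G)) hB'g hB'p hT1p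
      (hB'A.trans inf_le_right) hS1 ?_
    rw [Subgroup.commutator_eq_bot_iff_le_centralizer]
    refine le_trans ?_ (Subgroup.le_centralizer_iff.mp hB'U)
    refine le_trans ?_ hPU
    refine hPmax _ (hT1p.to_le inf_le_left) (le_inf (hPU.trans hUT1) (hPC.trans inf_le_right)) ?_
    exact inf_le_inf_right _ (hT1W1.trans inf_le_left)
  have hT1U : T1 = U := by
    refine (Subgroup.eq_of_le_of_card_ge hUT1 (hUmax T1 ⟨hT1W1.trans inf_le_left, hT1p, hS1, hPU.trans hUT1, B',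
      hB'A.trans (inf_le_left.trans hDW), hRB', hB'p, hB'g, hYB', ?_⟩)).symm
    exact Subgroup.le_centralizer_iff.mp (Subgroup.commutator_eq_bot_iff_le_centralizer.mp hcent)
  -- so `U` is a Sylow subgroup of `W`
  obtain ⟨S0, hS0⟩ := (hUp.of_equiv (Subgroup.subgroupOfEquivOfLe hUW).symm).exists_le_sylow
  refine ⟨S0, B, hBWY, hBp, hYB, ?_⟩
  suffices h : (S0 : Subgroup W).map W.subtype ≤ U from
    hBU.trans (Subgroup.centralizer_le (by exact h))
  by_contra hne
  have hUlt : U < (S0 : Subgroup W).map W.subtype := by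
    refine lt_of_le_of_ne ?_ fun e => hne e.ge
    conv_lhs => rw [← Subgroup.map_subgroupOf_eq_of_le hUW]
    exact Subgroup.map_mono hS0
  set S' := (S0 : Subgroup W).map W.subtype with hS'
  haveI := (S0.2.map W.subtype : IsPGroup 2 S').isNilpotent
  have hlt : U.subgroupOf S' < ⊤ := lt_top_iff_ne_top.2 fun h => hUlt.not_ge (Subgroup.subgroupOf_eq_top.mp h)
  obtain ⟨g, hg, hgU⟩ := SetLike.exists_of_lt (Group.normalizerCondition_of_isNilpotent _ hlt)
  set M := S' ⊓ Subgroup.normalizer (U : Set X) with hM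
  have hUM : U ≤ M := le_inf hUlt.le Subgroup.le_normalizer
  have hgM : (g : X) ∈ M := Subgroup.mem_inf.mpr ⟨g.2, Subgroup.mem_normalizer_iff.mpr fun x => ⟨fun hx =>
    (Subgroup.mem_normalizer_iff.mp hg ⟨x, hUlt.le hx⟩).mp hx, fun hx => by
      have hxS : x ∈ S' := by
        have h1 := S'.mul_mem (S'.mul_mem (S'.inv_mem g.2) (hUlt.le hx)) g.2
        simpa [mul_assoc] using h1
      exact (Subgroup.mem_normalizer_iff.mp hg ⟨x, hxS⟩).mpr hx⟩⟩
  have hMW1 : M ≤ W1 := inf_le_inf_right _ (Subgroup.map_subtype_le _)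
  have hcardM : Nat.card M ≤ Nat.card T1 := by
    have hMp : IsPGroup 2 M := (S0.2.map W.subtype).to_le inf_le_left
    obtain ⟨k, hk⟩ := hMp.exists_card_eq
    rw [hT1card, hk]
    refine Nat.pow_le_pow_right two_pos ?_
    exact (Nat.Prime.pow_dvd_iff_le_factorization Nat.prime_two Nat.card_pos.ne').1 (hk ▸ Subgroup.card_dvd_of_le hMW1)
  rw [hT1U] at hcardM
  exact hgU (show (g : X) ∈ U from (Subgroup.eq_of_le_of_card_ge hUM hcardM) ▸ hgM)

end CfsgLib.Flavell1933
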